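import Groth.Agent.Lib.NormalHom.Connected
import Mathlib.RingTheory.IntegralClosure.IsIntegralClosure.Basic
import Mathlib.RingTheory.Localization.Integral

/-!
# Normality from integral closedness in a Noetherian normal ring
-/

set_option autoImplicit false
set_option linter.style.haveILetI false
universe u

open scoped Polynomial

namespace GrothLib.NormalTensor

/-- A normal ring is reduced. -/
theorem isReduced_of_isNormalRing {R : Type u} [CommRing R] (h : EGA4.IsNormalRing R) : _root_.IsReduced R := by
  refine ⟨fun x hx => ?_⟩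
  by_contra hx0
  have hne : (Submodule.span R {x}).annihilator ≠ ⊤ := fun htop => hx0 (by
    simpa [Submodule.mem_annihilator_span_singleton] using ((Ideal.eq_top_iff_one _).1 htop))
  obtain ⟨m, hm, hle⟩ := Ideal.exists_le_maximal _ hne
  obtain ⟨hd, -⟩ := h m
  have h0 : algebraMap R (Localization.AtPrime m) x = 0 := (hx.map (algebraMap R _)).eq_zero
  obtain ⟨⟨u, hu⟩, hux⟩ := (IsLocalization.map_eq_zero_iff m.primeCompl _ _).1 h0
  exact hu (hle ((Submodule.mem_annihilator_span_singleton _ _).2 hux))

/-- Being integrally closed in is transitive. -/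
theorem isIntegrallyClosedIn_trans (E T Q : Type u) [CommRing E] [CommRing T] [CommRing Q] [Algebra E T]
    [Algebra T Q] [Algebra E Q] [IsScalarTower E T Q] [IsIntegrallyClosedIn E T] [IsIntegrallyClosedIn T Q] :
    IsIntegrallyClosedIn E Q := by
  have h1 : Function.Injective (algebraMap E T) := IsIntegralClosure.algebraMap_injective E E T
  have h2 : Function.Injective (algebraMap T Q) := IsIntegralClosure.algebraMap_injective T T Q
  refine ⟨by rw [IsScalarTower.algebraMap_eq E T Q]; exact h2.comp h1, fun {x} => ⟨fun hx => ?_, ?_⟩⟩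
  · obtain ⟨y, rfl⟩ := IsIntegrallyClosedIn.algebraMap_eq_of_integral (R := T) hx.tower_top
    have hy : IsIntegral E y := (isIntegral_algHom_iff (IsScalarTower.toAlgHom E T Q) h2).1 hx
    obtain ⟨e, rfl⟩ := IsIntegrallyClosedIn.algebraMap_eq_of_integral (R := E) hy
    exact ⟨e, IsScalarTower.algebraMap_apply E T Q e⟩
  · rintro ⟨e, rfl⟩
    exact isIntegral_algebraMap

/-- A normal ring is integrally closed in its localisations at non-zero-divisors. -/
theorem isIntegrallyClosedIn_of_isNormalRing {E : Type u} [CommRing E] (h : EGA4.IsNormalRing E)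
    (S : Submonoid E) (hS : S ≤ nonZeroDivisors E) (T : Type u) [CommRing T] [Algebra E T] [IsLocalization S T] :
    IsIntegrallyClosedIn E T := by
  refine ⟨IsLocalization.injective T hS, fun {x} => ⟨fun hx => ?_, ?_⟩⟩
  · obtain ⟨b, ⟨t, ht⟩, rfl⟩ := IsLocalization.exists_mk'_eq S x
    let I : Ideal E := Submodule.comap (LinearMap.mulRight E b) (Ideal.span {t})
    suffices hI : (1 : E) ∈ I by
      obtain ⟨e, he⟩ := Ideal.mem_span_singleton'.1 (show (1 : E) * b ∈ Ideal.span {t} from hI)
      refine ⟨e, (IsLocalization.eq_mk'_iff_mul_eq).2 ?_⟩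
      rw [← map_mul, he, one_mul]
    rw [← Ideal.eq_top_iff_one]
    by_contra hne
    obtain ⟨m, hm, hle⟩ := Ideal.exists_le_maximal I hne
    obtain ⟨hd, hic⟩ := h m
    let D := Localization.AtPrime m
    let K := FractionRing D
    have htD : algebraMap E D t ≠ 0 := fun h0 => by
      obtain ⟨⟨u, hu⟩, hut⟩ := (IsLocalization.map_eq_zero_iff m.primeCompl D t).1 h0
      exact hu ((mem_nonZeroDivisors_iff_right.1 (hS ht) u hut) ▸ zero_mem m)
    have htK : algebraMap E K t ≠ 0 := by
      rw [IsScalarTower.algebraMap_apply E D K]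
      exact (map_ne_zero_iff _ (IsFractionRing.injective D K)).2 htD
    have hg : ∀ s : S, IsUnit (algebraMap E K s) := fun s => isUnit_iff_ne_zero.2 fun h0 => by
      rw [IsScalarTower.algebraMap_apply E D K, map_eq_zero_iff _ (IsFractionRing.injective D K),
        IsLocalization.map_eq_zero_iff m.primeCompl D] at h0
      obtain ⟨⟨u, hu⟩, hus⟩ := h0
      exact hu ((mem_nonZeroDivisors_iff_right.1 (hS s.2) u hus) ▸ zero_mem m)
    let g : T →ₐ[E] K :=
      { (IsLocalization.lift hg : T →+* K) with commutes' := fun e => IsLocalization.lift_eq hg e }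
    have hint : IsIntegral D (g (IsLocalization.mk' T b ⟨t, ht⟩)) := (hx.map g).tower_top
    obtain ⟨d, hd'⟩ := IsIntegrallyClosed.isIntegral_iff.1 hint
    obtain ⟨c, ⟨s, hs⟩, rfl⟩ := IsLocalization.exists_mk'_eq m.primeCompl d
    refine hs (hle ?_)
    show s * b ∈ Ideal.span {t}
    have h1 : algebraMap E D (s * b) = algebraMap E D (t * c) := by
      refine IsFractionRing.injective D K ?_
      rw [← IsScalarTower.algebraMap_apply, ← IsScalarTower.algebraMap_apply, map_mul, map_mul]
      have h2 : algebraMap E K t * algebraMap D K (IsLocalization.mk' D c ⟨s, hs⟩) = algebraMap E K b := by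
        rw [hd', ← g.commutes t, ← map_mul, mul_comm, IsLocalization.mk'_spec, g.commutes]
      rw [← h2, IsScalarTower.algebraMap_apply E D K s, IsScalarTower.algebraMap_apply E D K c, mul_left_comm,
        ← map_mul, mul_comm (algebraMap E D s), IsLocalization.mk'_spec]
    obtain ⟨⟨v, hv⟩, hv'⟩ := (IsLocalization.eq_iff_exists m.primeCompl D).1 h1
    exfalso
    exact (hm.isPrime.mul_notMem hv hs) (hle (show v * s * b ∈ Ideal.span {t} from
      Ideal.mem_span_singleton'.2 ⟨v * c, by linear_combination -hv'⟩))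
  · rintro ⟨e, rfl⟩
    exact isIntegral_algebraMap

/-- A ring integrally closed in a Noetherian normal ring is normal. -/
theorem isNormalRing_of_isIntegrallyClosedIn (E Q : Type u) [CommRing E] [CommRing Q] [Algebra E Q]
    [IsIntegrallyClosedIn E Q] [IsNoetherianRing Q] (hQ : EGA4.IsNormalRing Q) : EGA4.IsNormalRing E := by
  intro P _
  let M := P.primeCompl
  let D := Localization.AtPrime P
  let N := Algebra.algebraMapSubmonoid Q M
  let Q' := Localization N
  letI : Algebra D Q' := localizationAlgebra M Q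
  haveI : IsScalarTower E D Q' := IsScalarTower.of_algebraMap_eq fun x => by
    show algebraMap E Q' x = IsLocalization.map _ (algebraMap E Q) _ (algebraMap E D x)
    rw [IsLocalization.map_eq, ← IsScalarTower.algebraMap_apply]
  have hinj : Function.Injective (algebraMap D Q') := by
    rw [injective_iff_map_eq_zero]
    intro z hz
    obtain ⟨a, s, rfl⟩ := IsLocalization.exists_mk'_eq M z
    have h1 : algebraMap E Q' a = 0 := by
      rw [IsScalarTower.algebraMap_apply E D Q', ← IsLocalization.mk'_spec D a s, map_mul, hz, zero_mul]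
    rw [IsScalarTower.algebraMap_apply E Q Q', IsLocalization.map_eq_zero_iff N] at h1
    obtain ⟨⟨_, ⟨m, hm, rfl⟩⟩, hma⟩ := h1
    have h2 : m * a = 0 := IsIntegralClosure.algebraMap_injective E E Q (by
      rw [map_zero, map_mul]; exact hma)
    rw [IsLocalization.mk'_eq_zero_iff]
    exact ⟨⟨m, hm⟩, h2⟩
  have hclosed : ∀ x : Q', IsIntegral D x → ∃ d : D, algebraMap D Q' d = x := by
    intro x hx
    obtain ⟨⟨y, _, m₁, hm₁, rfl⟩, e⟩ := IsLocalization.surj N x
    obtain ⟨⟨m₂, hm₂⟩, hm₂x⟩ := IsIntegral.exists_multiple_integral_of_isLocalization M x hx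
    simp only [Submonoid.smul_def, Algebra.smul_def] at hm₂x
    obtain ⟨m₃, hm₃, hm₃y⟩ := IsLocalization.exists_isIntegral_smul_of_isIntegral_map (Sₘ := Q')
      M (x := m₂ • y) (by
        simp only [Algebra.smul_def, map_mul, ← IsScalarTower.algebraMap_apply, ← e]
        rw [← mul_assoc]
        exact hm₂x.mul isIntegral_algebraMap)
    obtain ⟨d, hd⟩ := IsIntegrallyClosedIn.algebraMap_eq_of_integral (R := E) hm₃y
    refine ⟨IsLocalization.mk' D d (⟨m₁ * (m₂ * m₃), mul_mem hm₁ (mul_mem hm₂ hm₃)⟩ : M), ?_⟩
    have hu : IsUnit (algebraMap E Q' (m₁ * (m₂ * m₃))) := by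
      rw [IsScalarTower.algebraMap_apply E D Q']
      exact (IsLocalization.map_units D (⟨_, mul_mem hm₁ (mul_mem hm₂ hm₃)⟩ : M)).map _
    apply hu.mul_left_injective
    show algebraMap D Q' _ * algebraMap E Q' (m₁ * (m₂ * m₃)) = x * algebraMap E Q' (m₁ * (m₂ * m₃))
    rw [IsScalarTower.algebraMap_apply E D Q' (m₁ * (m₂ * m₃)), ← map_mul, IsLocalization.mk'_spec,
      ← IsScalarTower.algebraMap_apply E D Q', IsScalarTower.algebraMap_apply E Q Q', hd]
    simp only [Algebra.smul_def, map_mul, ← IsScalarTower.algebraMap_apply]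
    rw [← e, ← IsScalarTower.algebraMap_apply]
    ring
  haveI : Nontrivial Q' := hinj.nontrivial
  haveI : IsNoetherianRing Q' := IsLocalization.isNoetherianRing N Q' inferInstance
  have hQ' : EGA4.IsNormalRing Q' := GrothLib.Excellent.isNormalRing_isLocalization N hQ
  haveI : IsDomain Q' := by
    refine GrothLib.NormalHom.isDomain_of_local_isDomain Q' (fun q _ => (hQ' q).1) fun x hx => ?_
    obtain ⟨d, rfl⟩ := hclosed x ⟨Polynomial.X ^ 2 - Polynomial.X,
      Polynomial.monic_X_pow_sub (by rw [Polynomial.degree_X]; norm_num), by simp [pow_two, hx]⟩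
    have hd : d * d = d := hinj (by rw [map_mul, hx])
    rcases IsLocalRing.isUnit_or_isUnit_one_sub_self d with h | h
    · exact Or.inr (by rw [h.mul_left_cancel (hd.trans (mul_one d).symm), map_one])
    · exact Or.inl (by rw [h.mul_right_eq_zero.1 (by rw [sub_mul, one_mul, hd, sub_self] : (1 - d) * d = 0), map_zero])
  haveI hD : IsDomain D := hinj.isDomain
  haveI : IsIntegrallyClosed Q' := GrothLib.NormalHom.isIntegrallyClosed_of_isNormalRing Q' hQ'
  refine ⟨hD, (isIntegrallyClosed_iff (FractionRing D)).2 fun {z} hz => ?_⟩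
  have hgD : Function.Injective (algebraMap D (FractionRing Q')) := by
    rw [IsScalarTower.algebraMap_eq D Q' (FractionRing Q')]
    exact (IsFractionRing.injective Q' (FractionRing Q')).comp hinj
  let G : FractionRing D →ₐ[D] FractionRing Q' :=
    { (IsFractionRing.lift hgD : FractionRing D →+* FractionRing Q') with
      commutes' := fun d => IsFractionRing.lift_algebraMap hgD d }
  obtain ⟨y, hy⟩ := IsIntegrallyClosed.isIntegral_iff.1 ((hz.map G).tower_top (A := Q'))
  have hyint : IsIntegral D y :=
    (isIntegral_algHom_iff (IsScalarTower.toAlgHom D Q' (FractionRing Q')) (IsFractionRing.injective Q' _)).1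
      (by show IsIntegral D (algebraMap Q' (FractionRing Q') y); rw [hy]; exact hz.map G)
  obtain ⟨d, rfl⟩ := hclosed y hyint
  exact ⟨d, G.toRingHom.injective ((G.commutes d).trans ((IsScalarTower.algebraMap_apply D Q' (FractionRing Q') d).trans hy))⟩

end GrothLib.NormalTensor
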