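import Groth.Agent.Lib.N2.MoriNagata
import Mathlib.RingTheory.EssentialFiniteness
import Mathlib.RingTheory.Adjoin.FGBaseChange

/-!
# Krull subdomains of a normal local domain
-/

set_option autoImplicit false
set_option linter.style.haveILetI false
universe u

namespace GrothLib.NormalTensor

/-- Every finite subset of a normal local domain lies in a Krull subdomain with finitely generated
fraction field. -/
theorem exists_krull_subring {R B : Type u} [CommRing R] [IsNoetherianRing R] [CommRing B] [IsDomain B]
    [IsIntegrallyClosed B] [IsLocalRing B] [Algebra R B] (s : Finset B) :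
    ∃ (B₀ K₀ : Type u) (_ : CommRing B₀) (_ : IsDomain B₀) (_ : Field K₀) (_ : Algebra R B₀)
      (_ : Algebra B₀ K₀) (_ : Algebra R K₀) (_ : IsScalarTower R B₀ K₀) (_ : IsFractionRing B₀ K₀)
      (j : B₀ →ₐ[R] B), Function.Injective j ∧ (∀ x ∈ s, ∃ y, j y = x) ∧ Algebra.EssFiniteType R K₀ ∧
        ∃ ι : Type u, Nonempty (GrothLib.Krull.Family B₀ ι) := by
  let C := Algebra.adjoin R (s : Set B)
  haveI : Algebra.FiniteType R C := (Subalgebra.fg_iff_finiteType _).1 ⟨s, rfl⟩
  haveI : IsNoetherianRing C := Algebra.FiniteType.isNoetherianRing R C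
  let p : Ideal C := (IsLocalRing.maximalIdeal B).comap C.val.toRingHom
  haveI : p.IsPrime := Ideal.IsPrime.comap _
  let L := Localization.AtPrime p
  haveI : IsDomain L := IsLocalization.isDomain_localization p.primeCompl_le_nonZeroDivisors
  haveI : IsNoetherianRing L := IsLocalization.isNoetherianRing p.primeCompl L inferInstance
  have hu : ∀ c : p.primeCompl, IsUnit (C.val (c : C)) := fun c => IsLocalRing.notMem_maximalIdeal.1 c.2
  let lA : L →ₐ[R] B := IsLocalization.liftAlgHom (f := C.val) hu
  have hlA : ∀ c : C, lA (algebraMap C L c) = C.val c := fun c => IsLocalization.lift_eq hu c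
  have hlinj : Function.Injective lA := (injective_iff_map_eq_zero lA).2 fun z hz => by
    obtain ⟨a, m, rfl⟩ := IsLocalization.exists_mk'_eq p.primeCompl z
    have h1 : C.val a = 0 := by
      rw [← hlA, ← IsLocalization.mk'_spec L a m, map_mul, hz, zero_mul]
    rw [show a = 0 from Subtype.ext h1, IsLocalization.mk'_zero]
  obtain ⟨ι, ⟨F⟩⟩ := GrothLib.MoriNagata.nonempty_family (A := L)
  let K := FractionRing L
  let lF : K →+* FractionRing B :=
    IsFractionRing.lift (g := (algebraMap B (FractionRing B)).comp lA.toRingHom)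
      ((IsFractionRing.injective B (FractionRing B)).comp hlinj)
  have hlF : ∀ l, lF (algebraMap L K l) = algebraMap B (FractionRing B) (lA l) := fun l =>
    IsFractionRing.lift_algebraMap _ l
  let B₀ := integralClosure L K
  have hmem : ∀ z : B₀, lF z ∈ (algebraMap B (FractionRing B)).range := fun z => by
    refine IsIntegrallyClosed.algebraMap_eq_of_integral ?_
    obtain ⟨q, hq, hz⟩ := z.2
    refine ⟨q.map lA.toRingHom, hq.map _, ?_⟩
    rw [Polynomial.eval₂_map, show (algebraMap B (FractionRing B)).comp lA.toRingHom =
      lF.comp (algebraMap L K) from RingHom.ext fun l => (hlF l).symm, ← Polynomial.hom_eval₂, hz, map_zero]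
  let e : B ≃+* (algebraMap B (FractionRing B)).range :=
    RingEquiv.ofBijective (algebraMap B (FractionRing B)).rangeRestrict
      ⟨fun a a' h => IsFractionRing.injective B (FractionRing B) (congrArg Subtype.val h),
        (algebraMap B (FractionRing B)).rangeRestrict_surjective⟩
  let j₀ : B₀ →+* B := e.symm.toRingHom.comp
    ((lF.comp B₀.val.toRingHom).codRestrict (algebraMap B (FractionRing B)).range hmem)
  have hj : ∀ z : B₀, algebraMap B (FractionRing B) (j₀ z) = lF z := fun z =>
    congrArg Subtype.val (e.apply_symm_apply ⟨lF z, hmem z⟩)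
  have hjL : ∀ l : L, j₀ (algebraMap L B₀ l) = lA l := fun l =>
    IsFractionRing.injective B (FractionRing B) ((hj _).trans (hlF l))
  let j : B₀ →ₐ[R] B := { j₀ with
    commutes' := fun r => by
      show j₀ (algebraMap R B₀ r) = _
      rw [IsScalarTower.algebraMap_apply R L B₀, hjL, lA.commutes] }
  haveI : IsFractionRing B₀ K := by
    haveI : FaithfulSMul B₀ K := (faithfulSMul_iff_algebraMap_injective B₀ K).2 Subtype.val_injective
    refine IsFractionRing.of_field B₀ K fun z => ?_
    obtain ⟨a, b, -, rfl⟩ := IsFractionRing.div_surjective L (K := K) z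
    exact ⟨algebraMap L B₀ a, algebraMap L B₀ b, rfl⟩
  haveI : Algebra.EssFiniteType C L := Algebra.EssFiniteType.of_isLocalization _ p.primeCompl
  haveI : Algebra.EssFiniteType R L := Algebra.EssFiniteType.comp R C L
  haveI : Algebra.EssFiniteType L K := Algebra.EssFiniteType.of_isLocalization _ (nonZeroDivisors L)
  haveI : IsScalarTower R B₀ K := IsScalarTower.of_algebraMap_eq fun _ => rfl
  refine ⟨B₀, K, inferInstance, inferInstance, inferInstance, inferInstance, inferInstance, inferInstance,
    inferInstance, inferInstance, j, fun a b h => Subtype.ext (lF.injective ?_), fun x hx => ?_,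
    Algebra.EssFiniteType.comp R L K, ι, ⟨F⟩⟩
  · exact (hj a).symm.trans ((congrArg (algebraMap B (FractionRing B)) h).trans (hj b))
  · exact ⟨algebraMap L B₀ (algebraMap C L ⟨x, Algebra.subset_adjoin hx⟩), (hjL _).trans (hlA _)⟩

end GrothLib.NormalTensor
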