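import Groth.Agent.Lib.NormalTensor.KrullClosed
import Groth.Agent.Lib.NormalTensor.Criterion
import Groth.Agent.Lib.NormalTensor.KrullSub

/-!
# Tensor products with normal rings
-/

set_option autoImplicit false
set_option linter.style.haveILetI false
universe u

open TensorProduct
open GrothLib.Excellent (isNormalRing_congr)

namespace GrothLib.NormalTensor

/-- Normality is local on the base. -/
theorem isNormalRing_of_localBase (R X : Type u) [CommRing R] [CommRing X] [Algebra R X]
    (h : ∀ (P : Ideal R) [P.IsPrime], EGA4.IsNormalRing (X ⊗[R] Localization.AtPrime P)) :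
    EGA4.IsNormalRing X := by
  intro Q _
  set P := Q.comap (algebraMap R X)
  let T := X ⊗[R] Localization.AtPrime P
  let M := Algebra.algebraMapSubmonoid X P.primeCompl
  have hdisj : Disjoint (M : Set X) Q := by
    rw [Set.disjoint_left]
    rintro _ ⟨x, hx, rfl⟩ hM
    exact hx hM
  haveI : (Q.map (algebraMap X T)).IsPrime :=
    IsLocalization.isPrime_of_isPrime_disjoint M T Q inferInstance hdisj
  exact GrothLib.Excellent.isNormalAt_congr
    (IsLocalization.comap_map_of_isPrime_disjoint M T inferInstance hdisj)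
    ((GrothLib.Excellent.isNormalAt_localization M (Q.map (algebraMap X T))).1 (h P _))

/-- It is enough to treat normal local domains. -/
theorem isNormalRing_tensor_of_local {R B M : Type u} [CommRing R] [CommRing B] [CommRing M] [Algebra R B]
    [Algebra R M] (hB : EGA4.IsNormalRing B)
    (h : ∀ (D : Type u) [CommRing D] [IsDomain D] [IsIntegrallyClosed D] [IsLocalRing D] [Algebra R D],
      EGA4.IsNormalRing (D ⊗[R] M)) : EGA4.IsNormalRing (B ⊗[R] M) := by
  refine isNormalRing_of_localBase B _ fun P _ => ?_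
  obtain ⟨h1, h2⟩ := hB P
  haveI := h1
  haveI := h2
  exact isNormalRing_congr
    ((Algebra.TensorProduct.cancelBaseChange R B (Localization.AtPrime P) (Localization.AtPrime P) M).symm.toRingEquiv.trans
      (Algebra.TensorProduct.comm B (Localization.AtPrime P) (B ⊗[R] M)).toRingEquiv)
    (h (Localization.AtPrime P))

/-- It is enough to treat Krull domains with finitely generated fraction fields. -/
theorem isNormalRing_tensor_of_krull {R M B : Type u} [CommRing R] [IsNoetherianRing R] [CommRing M] [Algebra R M]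
    [Module.Flat R M] [CommRing B] [IsDomain B] [IsIntegrallyClosed B] [IsLocalRing B] [Algebra R B]
    (h : ∀ (B₀ K₀ : Type u) [CommRing B₀] [IsDomain B₀] [Field K₀] [Algebra R B₀] [Algebra B₀ K₀] [Algebra R K₀]
      [IsScalarTower R B₀ K₀] [IsFractionRing B₀ K₀] [Algebra.EssFiniteType R K₀] (ι : Type u)
      (_ : GrothLib.Krull.Family B₀ ι) (j : B₀ →ₐ[R] B), Function.Injective j → EGA4.IsNormalRing (B₀ ⊗[R] M)) :
    EGA4.IsNormalRing (B ⊗[R] M) := by
  classical
  refine GrothLib.NormalHom.isNormalRing_of_exhausted _ fun s => ?_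
  choose t ht using fun z : B ⊗[R] M => TensorProduct.exists_finset z
  let G : Finset B := s.biUnion fun z => (t z).image Prod.fst
  obtain ⟨B₀, K₀, _, _, _, _, _, _, _, _, j, hj, hjG, _, ι, ⟨F⟩⟩ := exists_krull_subring (R := R) G
  refine ⟨B₀ ⊗[R] M, inferInstance, (Algebra.TensorProduct.map j (AlgHom.id R M)).toRingHom,
    Module.Flat.rTensor_preserves_injective_linearMap (M := M) j.toLinearMap hj, h B₀ K₀ ι F j hj,
    fun z hz => ?_⟩
  rw [ht z]
  refine Subalgebra.sum_mem (S := (Algebra.TensorProduct.map j (AlgHom.id R M)).range) fun p hp => ?_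
  obtain ⟨y, hy⟩ := hjG p.1 (Finset.mem_biUnion.2 ⟨z, hz, Finset.mem_image_of_mem _ hp⟩)
  exact ⟨y ⊗ₜ[R] p.2, by simp [hy]⟩

/-- Transport along an isomorphism of the base. -/
theorem isIntegrallyClosedIn_of_equiv {T E Q : Type u} [CommRing T] [CommRing E] [CommRing Q] [Algebra E Q]
    [Algebra T Q] (e : T ≃+* E) (he : ∀ x, algebraMap T Q x = algebraMap E Q (e x)) [IsIntegrallyClosedIn E Q] :
    IsIntegrallyClosedIn T Q := by
  have hinj : Function.Injective (algebraMap E Q) := IsIntegralClosure.algebraMap_injective E E Q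
  refine ⟨fun x y h => e.injective (hinj (by rw [← he, ← he, h])), fun {q} => ⟨fun hq => ?_, ?_⟩⟩
  · obtain ⟨p, hp, hp0⟩ := hq
    have hint : IsIntegral E q := ⟨p.map e.toRingHom, hp.map _, by
      rw [Polynomial.eval₂_map, show (algebraMap E Q).comp e.toRingHom = algebraMap T Q from
        RingHom.ext fun x => (he x).symm, hp0]⟩
    obtain ⟨y, hy⟩ := IsIntegrallyClosedIn.algebraMap_eq_of_integral (R := E) hint
    exact ⟨e.symm y, by rw [he, e.apply_symm_apply, hy]⟩
  · rintro ⟨y, rfl⟩
    exact isIntegral_algebraMap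

/-- Normality from two steps of integral closedness. -/
theorem isNormalRing_of_two_steps (E T T' Q : Type u) [CommRing E] [CommRing T] [CommRing T'] [CommRing Q]
    [Algebra E T] [IsIntegrallyClosedIn E T] [Algebra T' Q] [IsIntegrallyClosedIn T' Q] [IsNoetherianRing Q]
    (hQ : EGA4.IsNormalRing Q) (e : T ≃+* T') : EGA4.IsNormalRing E := by
  letI : Algebra T Q := ((algebraMap T' Q).comp e.toRingHom).toAlgebra
  letI : Algebra E Q := ((algebraMap T Q).comp (algebraMap E T)).toAlgebra
  haveI : IsIntegrallyClosedIn T Q := isIntegrallyClosedIn_of_equiv e fun _ => rfl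
  haveI : IsScalarTower E T Q := IsScalarTower.of_algebraMap_eq fun _ => rfl
  haveI := isIntegrallyClosedIn_trans E T Q
  exact isNormalRing_of_isIntegrallyClosedIn E Q hQ

section
variable {R M B₀ K₀ : Type u} [CommRing R] [CommRing M] [Algebra R M] [Module.Flat R M] [CommRing B₀]
  [IsDomain B₀] [Field K₀] [Algebra R B₀] [Algebra B₀ K₀] [Algebra R K₀] [IsScalarTower R B₀ K₀]
  [IsFractionRing B₀ K₀]

omit [Module.Flat R M] [IsDomain B₀] [IsFractionRing B₀ K₀] in
/-- The generic fibre of a base change. -/
theorem exists_genericEquiv : Nonempty ((B₀ ⊗[R] M) ⊗[B₀] K₀ ≃+* K₀ ⊗[R] M) :=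
  ⟨(Algebra.TensorProduct.comm B₀ (B₀ ⊗[R] M) K₀).toRingEquiv.trans
    (Algebra.TensorProduct.cancelBaseChange R B₀ K₀ K₀ M).toRingEquiv⟩

/-- A flat base change with reduced fibres of a Krull domain is integrally closed in its generic fibre. -/
theorem isIntegrallyClosedIn_tensor {ι : Type u} (F : GrothLib.Krull.Family B₀ ι)
    (hred : ∀ (K : Type u) [Field K] [Algebra R K], _root_.IsReduced (K ⊗[R] M)) :
    IsIntegrallyClosedIn (B₀ ⊗[R] M) ((B₀ ⊗[R] M) ⊗[B₀] K₀) := by
  refine isIntegrallyClosedIn_generic F (fun K _ _ => ?_) _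
  letI : Algebra R K := ((algebraMap B₀ K).comp (algebraMap R B₀)).toAlgebra
  haveI : IsScalarTower R B₀ K := IsScalarTower.of_algebraMap_eq fun _ => rfl
  haveI := hred K
  exact isReduced_of_injective (Algebra.TensorProduct.cancelBaseChange R B₀ K K M)
    (Algebra.TensorProduct.cancelBaseChange R B₀ K K M).injective
end

/-- The base change of a normal homomorphism to a normal ring is normal. -/
theorem isNormalRing_baseChange {A A' : Type u} [CommRing A] [CommRing A'] [IsNoetherianRing A]
    [IsNoetherianRing A'] [Algebra A A'] (h : EGA4.IsNormalHom A A') {B : Type u} [CommRing B] [Algebra A B]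
    (hB : EGA4.IsNormalRing B) : EGA4.IsNormalRing (B ⊗[A] A') := by
  haveI := h.1
  refine isNormalRing_tensor_of_local hB fun D _ _ _ _ _ =>
    isNormalRing_tensor_of_krull fun B₀ K₀ _ _ _ _ _ _ _ _ _ ι F _ _ => ?_
  haveI := isIntegrallyClosedIn_tensor (R := A) (M := A') (K₀ := K₀) F fun K _ _ =>
    isReduced_of_isNormalRing (GrothLib.NormalHom.isNormalRing_field_tensor' h.2 K)
  obtain ⟨e⟩ := exists_genericEquiv (R := A) (M := A') (B₀ := B₀) (K₀ := K₀)
  haveI : IsNoetherianRing (A' ⊗[A] K₀) := Algebra.EssFiniteType.isNoetherianRing A' _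
  haveI : IsNoetherianRing ((B₀ ⊗[A] A') ⊗[B₀] K₀) := isNoetherianRing_of_ringEquiv _
    ((Algebra.TensorProduct.comm A A' K₀).toRingEquiv.trans e.symm)
  exact isNormalRing_of_isIntegrallyClosedIn _ ((B₀ ⊗[A] A') ⊗[B₀] K₀)
    (isNormalRing_congr e.symm (GrothLib.NormalHom.isNormalRing_field_tensor' h.2 K₀))

/-- Geometric normality passes to localisations. -/
theorem isGeomNormal_localization {k A : Type u} [Field k] [CommRing A] [Algebra k A]
    (h : EGA4.IsGeomNormal k A) (p : Ideal A) [p.IsPrime] : EGA4.IsGeomNormal k (Localization.AtPrime p) := by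
  intro L _ _ hL
  have h1 : EGA4.IsNormalRing (A ⊗[k] L) :=
    isNormalRing_congr (Algebra.TensorProduct.comm k L A).toRingEquiv (h L hL)
  exact isNormalRing_congr
    ((Algebra.TensorProduct.comm A (A ⊗[k] L) (Localization.AtPrime p)).toRingEquiv.trans
      ((Algebra.TensorProduct.cancelBaseChange k A (Localization.AtPrime p) (Localization.AtPrime p) L).toRingEquiv.trans
        (Algebra.TensorProduct.comm k (Localization.AtPrime p) L).toRingEquiv))
    (GrothLib.Excellent.isNormalRing_isLocalization (R := A ⊗[k] L)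
      (T := (A ⊗[k] L) ⊗[A] Localization.AtPrime p) (Algebra.algebraMapSubmonoid (A ⊗[k] L) p.primeCompl) h1)

/-- Non-zero-divisors stay non-zero-divisors in a tensor product over a field. -/
theorem one_tmul_mem_nonZeroDivisors {k : Type u} [Field k] (K M : Type u) [CommRing K] [Algebra k K] [CommRing M]
    [Algebra k M] {d : M} (hd : d ∈ nonZeroDivisors M) : (1 : K) ⊗ₜ[k] d ∈ nonZeroDivisors (K ⊗[k] M) := by
  refine mem_nonZeroDivisors_iff_right.2 fun x hx => ?_
  have hinj : Function.Injective ((LinearMap.mulRight k d).lTensor K) :=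
    Module.Flat.lTensor_preserves_injective_linearMap _ fun a b (h : a * d = b * d) =>
      sub_eq_zero.1 (mem_nonZeroDivisors_iff_right.1 hd _ (by rw [sub_mul, h, sub_self]))
  have hmul : ∀ w : K ⊗[k] M, (LinearMap.mulRight k d).lTensor K w = w * (1 : K) ⊗ₜ[k] d := fun w => by
    induction w using TensorProduct.induction_on with
    | zero => simp
    | tmul a b => simp
    | add a b ha hb => rw [map_add, ha, hb, add_mul]
  exact hinj (by rw [hmul, hx, map_zero])

/-- Inverting the non-zero elements of a domain in `K ⊗ D` gives a Noetherian ring for a finitely generated `K`. -/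
theorem isNoetherianRing_localization_tensor (k K D : Type u) [Field k] [Field K] [Algebra k K]
    [Algebra.EssFiniteType k K] [CommRing D] [IsDomain D] [Algebra k D] :
    IsNoetherianRing (Localization ((nonZeroDivisors D).map
      (Algebra.TensorProduct.includeRight : D →ₐ[k] K ⊗[k] D))) := by
  set S := (nonZeroDivisors D).map (Algebra.TensorProduct.includeRight : D →ₐ[k] K ⊗[k] D)
  let Q := Localization S
  let gD : D →ₐ[k] Q := (IsScalarTower.toAlgHom k (K ⊗[k] D) Q).comp Algebra.TensorProduct.includeRight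
  have hgu : ∀ d : nonZeroDivisors D, IsUnit (gD d) := fun d =>
    IsLocalization.map_units Q (⟨(1 : K) ⊗ₜ[k] (d : D), d, d.2, rfl⟩ : S)
  let gF : FractionRing D →ₐ[k] Q := IsLocalization.liftAlgHom (f := gD) hgu
  have hgF : ∀ b, gF (algebraMap D (FractionRing D) b) = gD b := fun b => IsLocalization.lift_eq hgu b
  let gK : K →ₐ[k] Q := (IsScalarTower.toAlgHom k (K ⊗[k] D) Q).comp Algebra.TensorProduct.includeLeft
  let π : FractionRing D ⊗[k] K →ₐ[k] Q := Algebra.TensorProduct.lift gF gK fun _ _ => .all _ _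
  haveI : IsNoetherianRing (FractionRing D ⊗[k] K) := Algebra.EssFiniteType.isNoetherianRing (FractionRing D) _
  refine isNoetherianRing_of_surjective _ _ π.toRingHom fun q => ?_
  obtain ⟨x, ⟨_, d, hd, rfl⟩, rfl⟩ := IsLocalization.exists_mk'_eq S q
  have himg : ∀ w : K ⊗[k] D, ∃ z, π z = algebraMap (K ⊗[k] D) Q w := fun w => by
    induction w using TensorProduct.induction_on with
    | zero => exact ⟨0, by simp⟩
    | tmul a b =>
      refine ⟨algebraMap D (FractionRing D) b ⊗ₜ a, ?_⟩
      rw [Algebra.TensorProduct.lift_tmul, hgF]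
      show algebraMap (K ⊗[k] D) Q ((1 : K) ⊗ₜ[k] b) * algebraMap (K ⊗[k] D) Q (a ⊗ₜ[k] (1 : D)) = _
      rw [← map_mul, Algebra.TensorProduct.tmul_mul_tmul, one_mul, mul_one]
    | add a b ha hb =>
      obtain ⟨z, hz⟩ := ha
      obtain ⟨z', hz'⟩ := hb
      exact ⟨z + z', by rw [map_add, hz, hz', map_add]⟩
  obtain ⟨z, hz⟩ := himg x
  refine ⟨z * (IsLocalization.mk' (FractionRing D) (1 : D) (⟨d, hd⟩ : nonZeroDivisors D) ⊗ₜ (1 : K)), ?_⟩
  show π (z * _) = _
  rw [IsLocalization.eq_mk'_iff_mul_eq, map_mul, hz, Algebra.TensorProduct.lift_tmul, map_one, mul_one, mul_assoc]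
  show algebraMap _ Q x * (gF _ * gD d) = _
  rw [← hgF d, ← map_mul, IsLocalization.mk'_spec, map_one, map_one, mul_one]

/-- The tensor product of a normal and a geometrically normal algebra over a field. -/
theorem isNormalRing_tensor_geomNormal {k A B : Type u} [Field k] [CommRing A] [Algebra k A] [CommRing B]
    [Algebra k B] (hA : EGA4.IsGeomNormal k A) (hB : EGA4.IsNormalRing B) : EGA4.IsNormalRing (A ⊗[k] B) := by
  refine isNormalRing_congr (Algebra.TensorProduct.comm k B A).toRingEquiv ?_
  refine isNormalRing_tensor_of_local hB fun B' _ _ _ _ _ =>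
    isNormalRing_tensor_of_krull fun B₀ K₀ _ _ _ _ _ _ _ _ _ ι F _ _ => ?_
  refine isNormalRing_congr (Algebra.TensorProduct.comm k A B₀).toRingEquiv (isNormalRing_of_localBase A _ fun p _ => ?_)
  let D := Localization.AtPrime p
  have hD : EGA4.IsGeomNormal k D := isGeomNormal_localization hA p
  refine isNormalRing_congr
    ((Algebra.TensorProduct.comm k B₀ D).toRingEquiv.trans
      ((Algebra.TensorProduct.cancelBaseChange k A D D B₀).symm.toRingEquiv.trans
        (Algebra.TensorProduct.comm A D (A ⊗[k] B₀)).toRingEquiv)) ?_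
  have hDn : EGA4.IsNormalRing D :=
    isNormalRing_congr (Algebra.TensorProduct.lid k D).toRingEquiv (hD k inferInstance)
  haveI : IsDomain D := by
    obtain ⟨hd, -⟩ := hDn (IsLocalRing.maximalIdeal D)
    haveI := hd
    exact (IsLocalization.atUnits D (IsLocalRing.maximalIdeal D).primeCompl
      (S := Localization.AtPrime (IsLocalRing.maximalIdeal D)) fun x hx => IsLocalRing.notMem_maximalIdeal.1 hx).toMulEquiv.isDomain _
  haveI := isIntegrallyClosedIn_tensor (R := k) (M := D) (K₀ := K₀) F fun K _ _ =>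
    isReduced_of_isNormalRing (GrothLib.NormalHom.isNormalRing_tensor_field hD K)
  obtain ⟨e⟩ := exists_genericEquiv (R := k) (M := D) (B₀ := B₀) (K₀ := K₀)
  let T := (B₀ ⊗[k] D) ⊗[B₀] K₀
  let S := (nonZeroDivisors D).map (Algebra.TensorProduct.includeRight : D →ₐ[k] K₀ ⊗[k] D)
  have hS : S ≤ nonZeroDivisors (K₀ ⊗[k] D) := by
    rintro _ ⟨d, hd, rfl⟩
    exact one_tmul_mem_nonZeroDivisors K₀ D hd
  let Q := Localization S
  have hT : EGA4.IsNormalRing (K₀ ⊗[k] D) := GrothLib.NormalHom.isNormalRing_tensor_field hD K₀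
  haveI : IsIntegrallyClosedIn (K₀ ⊗[k] D) Q := isIntegrallyClosedIn_of_isNormalRing hT S hS Q
  haveI : IsNoetherianRing Q := isNoetherianRing_localization_tensor k K₀ D
  exact isNormalRing_of_two_steps (B₀ ⊗[k] D) T (K₀ ⊗[k] D) Q
    (GrothLib.Excellent.isNormalRing_isLocalization S hT) e

/-- The tensor product of normal domains with separable fraction fields. -/
theorem isNormalRing_tensor_separable_domains {k A B : Type u} [Field k] [CommRing A] [CommRing B] [IsDomain A]
    [IsDomain B] [IsIntegrallyClosed A] [IsIntegrallyClosed B] [Algebra k A] [Algebra k B]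
    [Algebra.IsGeometricallyReduced k (FractionRing A)] [Algebra.IsGeometricallyReduced k (FractionRing B)] :
    EGA4.IsNormalRing (A ⊗[k] B) := by
  refine isNormalRing_of_localBase A _ fun p _ => ?_
  let DA := Localization.AtPrime p
  haveI : IsDomain DA := IsLocalization.isDomain_of_le_nonZeroDivisors _ p.primeCompl_le_nonZeroDivisors
  haveI : IsIntegrallyClosed DA := isIntegrallyClosed_of_isLocalization DA p.primeCompl p.primeCompl_le_nonZeroDivisors
  refine isNormalRing_congr ((Algebra.TensorProduct.cancelBaseChange k A DA DA B).symm.toRingEquiv.trans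
    (Algebra.TensorProduct.comm A DA (A ⊗[k] B)).toRingEquiv) ?_
  refine isNormalRing_congr (Algebra.TensorProduct.comm k B DA).toRingEquiv ?_
  refine isNormalRing_of_localBase B _ fun q _ => ?_
  let DB := Localization.AtPrime q
  haveI : IsDomain DB := IsLocalization.isDomain_of_le_nonZeroDivisors _ q.primeCompl_le_nonZeroDivisors
  haveI : IsIntegrallyClosed DB := isIntegrallyClosed_of_isLocalization DB q.primeCompl q.primeCompl_le_nonZeroDivisors
  refine isNormalRing_congr ((Algebra.TensorProduct.cancelBaseChange k B DB DB DA).symm.toRingEquiv.trans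
    (Algebra.TensorProduct.comm B DB (B ⊗[k] DA)).toRingEquiv) ?_
  haveI := IsFractionRing.isFractionRing_of_isDomain_of_isLocalization p.primeCompl DA (FractionRing A)
  haveI := IsFractionRing.isFractionRing_of_isDomain_of_isLocalization q.primeCompl DB (FractionRing B)
  haveI : IsScalarTower k DA (FractionRing A) := IsScalarTower.of_algebraMap_eq fun c => by
    rw [IsScalarTower.algebraMap_apply k A DA, ← IsScalarTower.algebraMap_apply A DA (FractionRing A),
      ← IsScalarTower.algebraMap_apply]
  haveI : IsScalarTower k DB (FractionRing B) := IsScalarTower.of_algebraMap_eq fun c => by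
    rw [IsScalarTower.algebraMap_apply k B DB, ← IsScalarTower.algebraMap_apply B DB (FractionRing B),
      ← IsScalarTower.algebraMap_apply]
  refine isNormalRing_tensor_of_krull fun B₀ KB _ _ _ _ _ _ _ _ _ ι F jB hjB => ?_
  refine isNormalRing_congr (Algebra.TensorProduct.comm k DA B₀).toRingEquiv ?_
  refine isNormalRing_tensor_of_krull fun A₀ KA _ _ _ _ _ _ _ _ _ ι' F' jA hjA => ?_
  have hKA : Algebra.IsGeometricallyReduced k KA := by
    let l : KA →ₐ[k] FractionRing A := IsFractionRing.liftAlgHom (K := KA)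
      (g := (IsScalarTower.toAlgHom k DA (FractionRing A)).comp jA)
      ((IsFractionRing.injective DA (FractionRing A)).comp hjA)
    exact Algebra.IsGeometricallyReduced.of_injective l l.toRingHom.injective
  have hKB : Algebra.IsGeometricallyReduced k KB := by
    let l : KB →ₐ[k] FractionRing B := IsFractionRing.liftAlgHom (K := KB)
      (g := (IsScalarTower.toAlgHom k DB (FractionRing B)).comp jB)
      ((IsFractionRing.injective DB (FractionRing B)).comp hjB)
    exact Algebra.IsGeometricallyReduced.of_injective l l.toRingHom.injective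
  haveI := hKA
  haveI := hKB
  have hredK : ∀ (M K : Type u) [Field M] [Algebra k M] [Algebra.IsGeometricallyReduced k M] [Field K] [Algebra k K],
      _root_.IsReduced (K ⊗[k] M) := fun M K _ _ _ _ _ => by
    haveI := isReduced_of_isNormalRing
      (GrothLib.NormalHom.isNormalRing_tensor_separable (k := k) (GrothLib.NormalHom.isNormalRing_of_isDomain K) M)
    exact isReduced_of_injective (Algebra.TensorProduct.comm k K M) (Algebra.TensorProduct.comm k K M).injective
  -- first step
  haveI := isIntegrallyClosedIn_tensor (R := k) (M := B₀) (K₀ := KA) F' fun K _ _ => by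
    haveI := hredK KB K
    exact isReduced_of_injective (Algebra.TensorProduct.map (AlgHom.id k K) (IsScalarTower.toAlgHom k B₀ KB))
      (Module.Flat.lTensor_preserves_injective_linearMap (M := K) (IsScalarTower.toAlgHom k B₀ KB).toLinearMap
        (IsFractionRing.injective B₀ KB))
  -- second step
  haveI := isIntegrallyClosedIn_tensor (R := k) (M := KA) (K₀ := KB) F fun K _ _ => hredK KA K
  obtain ⟨e₁⟩ := exists_genericEquiv (R := k) (M := B₀) (B₀ := A₀) (K₀ := KA)
  obtain ⟨e₂⟩ := exists_genericEquiv (R := k) (M := KA) (B₀ := B₀) (K₀ := KB)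
  let T := (A₀ ⊗[k] B₀) ⊗[A₀] KA
  let E₂ := B₀ ⊗[k] KA
  let Q := E₂ ⊗[B₀] KB
  let eT : T ≃+* E₂ := e₁.trans (Algebra.TensorProduct.comm k KA B₀).toRingEquiv
  haveI : IsNoetherianRing (KA ⊗[k] KB) := Algebra.EssFiniteType.isNoetherianRing KA _
  haveI : IsNoetherianRing Q := isNoetherianRing_of_ringEquiv _
    ((Algebra.TensorProduct.comm k KA KB).toRingEquiv.trans e₂.symm)
  exact isNormalRing_of_two_steps (A₀ ⊗[k] B₀) T E₂ Q (isNormalRing_congr e₂.symm
    (GrothLib.NormalHom.isNormalRing_tensor_separable (k := k) (GrothLib.NormalHom.isNormalRing_of_isDomain KA) KB)) eT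

end GrothLib.NormalTensor
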