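import Groth.Agent.Lib.LocAcyc.KrullDivide
import Mathlib.RingTheory.IntegralClosure.IsIntegralClosure.Basic
import Mathlib.RingTheory.Localization.Integral

/-!
# Flat algebras with reduced fibres over Krull domains are integrally closed in the generic fibre
-/

set_option autoImplicit false
universe u v

namespace GrothLib.NormalTensor

open TensorProduct GrothLib.LocAcyc

variable {B E : Type u} [CommRing B] [IsDomain B] [CommRing E] [Algebra B E] [Module.Flat B E]

/-- The local statement at a prime with a uniformizer. -/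
theorem exists_notMem_smul_mem_of_monic {P : Ideal B} [P.IsPrime] {c : B} (hc : Krull.IsUniformizer P c)
    (hred : _root_.IsReduced (P.ResidueField ⊗[B] E)) {t : B} (ht : t ≠ 0) {b : E} {n : ℕ} (a : ℕ → E)
    (h : b ^ n + ∑ i ∈ Finset.range n, a i * algebraMap B E t ^ (n - i) * b ^ i = 0) :
    ∃ s ∉ P, ∃ e : E, s • b = t • e := by
  obtain ⟨N, u, w, hu, hw, he⟩ := hc.2.2 t ht
  have key : ∀ k ≤ N, ∃ s ∉ P, ∃ β : E, s • b = c ^ k • β := by
    intro k
    induction k with
    | zero => exact fun _ => ⟨1, fun hm => ‹P.IsPrime›.ne_top ((Ideal.eq_top_iff_one P).2 hm), b, by simp⟩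
    | succ k ih =>
      intro hk
      obtain ⟨s, hs, β, hβ⟩ := ih (Nat.le_of_succ_le hk)
      obtain ⟨m, hm⟩ : ∃ m, N = k + (m + 1) := ⟨N - k - 1, by omega⟩
      let S := algebraMap B E
      let r : E := ∑ i ∈ Finset.range n, a i * S s ^ (n - i) * S (c ^ (m + 1) * w) ^ (n - i) * S u ^ i * β ^ i
      have hβ' : S s * b = S (c ^ k) * β := by
        show algebraMap B E s * b = algebraMap B E (c ^ k) * β
        rw [← Algebra.smul_def, ← Algebra.smul_def, hβ]
      have he' : S u * S t = S (c ^ k) * S (c ^ (m + 1) * w) := by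
        show algebraMap B E u * algebraMap B E t = algebraMap B E (c ^ k) * algebraMap B E (c ^ (m + 1) * w)
        rw [← map_mul, ← map_mul, he, hm, pow_add, mul_assoc]
      have h1 : (c ^ k) ^ n • ((S u) ^ n * β ^ n + r) = 0 := by
        have h2 : S (c ^ k) ^ n * ((S u) ^ n * β ^ n + r) =
            S u ^ n * S s ^ n * (b ^ n + ∑ i ∈ Finset.range n, a i * S t ^ (n - i) * b ^ i) := by
          rw [mul_add, mul_add]
          congr 1
          · calc S (c ^ k) ^ n * (S u ^ n * β ^ n) = S u ^ n * (S (c ^ k) * β) ^ n := by ring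
              _ = _ := by rw [← hβ']; ring
          · show S (c ^ k) ^ n * (∑ i ∈ Finset.range n, _) = _
            rw [Finset.mul_sum, Finset.mul_sum]
            refine Finset.sum_congr rfl fun i hi => ?_
            obtain ⟨d, hd⟩ : ∃ d, n = i + d := ⟨n - i, by have := Finset.mem_range.1 hi; omega⟩
            rw [hd, Nat.add_sub_cancel_left]
            calc S (c ^ k) ^ (i + d) * (a i * S s ^ d * S (c ^ (m + 1) * w) ^ d * S u ^ i * β ^ i)
                = a i * S s ^ d * (S (c ^ k) * S (c ^ (m + 1) * w)) ^ d * S u ^ i * (S (c ^ k) * β) ^ i := by ring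
              _ = _ := by rw [← he', ← hβ']; ring
        have h3 : b ^ n + ∑ i ∈ Finset.range n, a i * S t ^ (n - i) * b ^ i = 0 := h
        rw [h3, mul_zero] at h2
        rw [Algebra.smul_def, map_pow]
        exact h2
      have h4 := smul_eq_zero_of_flat (pow_ne_zero _ (pow_ne_zero _ hc.2.1)) h1
      have hcP : algebraMap B P.ResidueField c = 0 := Ideal.algebraMap_residueField_eq_zero.2 hc.1
      let ι : E →ₐ[B] P.ResidueField ⊗[B] E := Algebra.TensorProduct.includeRight
      have hιc : ι (S c) = 0 := by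
        show ι (algebraMap B E c) = 0
        rw [AlgHom.commutes, IsScalarTower.algebraMap_apply B P.ResidueField (P.ResidueField ⊗[B] E), hcP, map_zero]
      have hr : ι r = 0 := by
        rw [map_sum]
        refine Finset.sum_eq_zero fun i hi => ?_
        obtain ⟨d, hd⟩ : ∃ d, n - i = d + 1 := ⟨n - i - 1, by have := Finset.mem_range.1 hi; omega⟩
        have : S (c ^ (m + 1) * w) = S c * S (c ^ m * w) := by
          show algebraMap B E _ = algebraMap B E _ * algebraMap B E _
          rw [← map_mul, pow_succ', mul_assoc]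
        rw [hd, this]
        simp [hιc]
      have h5 : (1 : P.ResidueField) ⊗ₜ[B] β = 0 := by
        have h6 := congrArg ι h4
        rw [map_add, hr, add_zero, map_zero, map_mul, map_pow, map_pow] at h6
        have hu' : IsUnit (ι (S u)) := by
          show IsUnit (ι (algebraMap B E u))
          rw [AlgHom.commutes, IsScalarTower.algebraMap_apply B P.ResidueField (P.ResidueField ⊗[B] E)]
          exact (isUnit_iff_ne_zero.2 fun h0 => hu (Ideal.algebraMap_residueField_eq_zero.1 h0)).map _
        exact hred.eq_zero _ ⟨n, (hu'.pow n).mul_right_eq_zero.1 h6⟩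
      obtain ⟨v, hv, β', hβ''⟩ := exists_smul_mem_of_isUniformizer hc (mem_smul_top_of_fiber_eq_zero P β h5)
      refine ⟨v * s, Ideal.IsPrime.mul_notMem ‹_› hv hs, β', ?_⟩
      rw [mul_smul, hβ, smul_comm, hβ'', smul_smul, pow_succ]
  obtain ⟨s, hs, β, hβ⟩ := key N le_rfl
  refine ⟨w * s, Ideal.IsPrime.mul_notMem ‹_› hw hs, u • β, ?_⟩
  rw [mul_smul, hβ, smul_smul, smul_smul, mul_comm t u, he, mul_comm w]

/-- An element integral after division by `t` is divisible by `t`. -/
theorem mem_span_of_family_monic {ι : Type v} (F : Krull.Family B ι)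
    (hred : ∀ (K : Type u) [Field K] [Algebra B K], _root_.IsReduced (K ⊗[B] E))
    {t : B} (ht : t ≠ 0) {b : E} {n : ℕ} (a : ℕ → E)
    (h : b ^ n + ∑ i ∈ Finset.range n, a i * algebraMap B E t ^ (n - i) * b ^ i = 0) :
    b ∈ (Ideal.span {t}).map (algebraMap B E) := by
  classical
  let S : Set (Ideal B) := {P | P.IsPrime ∧ (∃ c, Krull.IsUniformizer P c) ∧
    ∃ i, F.val i t ≠ 0 ∧ ∀ r, r ∈ P ↔ F.val i r ≠ 0}
  haveI : Finite S := by
    refine Set.Finite.to_subtype (((F.finite t ht).biUnion
      (t := fun i => {P : Ideal B | ∀ r, r ∈ P ↔ F.val i r ≠ 0}) fun i _ => ?_).subset ?_)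
    · exact Set.Subsingleton.finite fun P hP Q hQ => Ideal.ext fun r => (hP r).trans (hQ r).symm
    · rintro P ⟨-, -, i, hi, hP⟩
      exact Set.mem_biUnion hi hP
  haveI : ∀ P : S, P.1.IsPrime := fun P => P.2.1
  refine mem_map_of_forall (P := B) (fun P : S => Localization.AtPrime P.1 ⧸
    Ideal.span {algebraMap B (Localization.AtPrime P.1) t}) (Ideal.span {t}) (fun p hp => ?_) b fun P => ?_
  · rw [Ideal.mem_span_singleton]
    by_contra hndvd
    obtain ⟨P, c, hP, hc, hs, i, hi, hPi⟩ := F.exists_prime_of_not_dvd ht hndvd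
    have hP' : P ∈ S := ⟨hP, ⟨c, hc⟩, i, hi, hPi⟩
    have h1 : Ideal.Quotient.mk (Ideal.span {algebraMap B (Localization.AtPrime P) t})
        (algebraMap B (Localization.AtPrime P) p) = 0 := hp ⟨P, hP'⟩
    rw [Ideal.Quotient.eq_zero_iff_mem, Ideal.mem_span_singleton] at h1
    obtain ⟨q, hq⟩ := h1
    obtain ⟨⟨r, s⟩, hrs⟩ := IsLocalization.surj P.primeCompl q
    have h2 : algebraMap B (Localization.AtPrime P) (p * s) = algebraMap B (Localization.AtPrime P) (t * r) := by
      rw [map_mul, map_mul, hq, ← hrs, mul_assoc]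
    obtain ⟨v, hv⟩ := (IsLocalization.eq_iff_exists P.primeCompl _).1 h2
    exact hs (v * s) (Ideal.IsPrime.mul_notMem hP v.2 s.2) ⟨v * r, by linear_combination hv⟩
  · obtain ⟨c, hc⟩ := P.2.2.1
    obtain ⟨s, hs, e, he⟩ := exists_notMem_smul_mem_of_monic hc (hred _) ht a h
    let R := Localization.AtPrime P.1 ⧸ Ideal.span {algebraMap B (Localization.AtPrime P.1) t}
    have hu : IsUnit (algebraMap B R s) := by
      rw [IsScalarTower.algebraMap_apply B (Localization.AtPrime P.1) R]
      exact (IsLocalization.map_units (Localization.AtPrime P.1) (⟨s, hs⟩ : P.1.primeCompl)).map _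
    have ht0 : algebraMap B R t = 0 := by
      rw [IsScalarTower.algebraMap_apply B (Localization.AtPrime P.1) R, Ideal.Quotient.algebraMap_eq,
        Ideal.Quotient.eq_zero_iff_mem]
      exact Ideal.mem_span_singleton_self _
    exact one_tmul_eq_zero_of_isUnit hu ht0 he

omit [Module.Flat B E] in
theorem algebraMapSubmonoid_ne_zero {e : E} (he : e ∈ Algebra.algebraMapSubmonoid E (nonZeroDivisors B)) :
    ∃ t : B, t ≠ 0 ∧ algebraMap B E t = e := by
  obtain ⟨t, ht, rfl⟩ := he
  exact ⟨t, nonZeroDivisors.ne_zero ht, rfl⟩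

/-- The map to the generic fibre is injective. -/
theorem injective_generic (T : Type u) [CommRing T] [Algebra E T]
    [IsLocalization (Algebra.algebraMapSubmonoid E (nonZeroDivisors B)) T] :
    Function.Injective (algebraMap E T) := by
  rw [injective_iff_map_eq_zero]
  intro z hz
  obtain ⟨⟨e, he⟩, hez⟩ := (IsLocalization.map_eq_zero_iff (Algebra.algebraMapSubmonoid E (nonZeroDivisors B)) T z).1 hz
  obtain ⟨t, ht, rfl⟩ := algebraMapSubmonoid_ne_zero he
  exact smul_eq_zero_of_flat ht ((Algebra.smul_def t z).trans hez)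

/-- A flat algebra with reduced fibres over a Krull domain is integrally closed in its generic fibre. -/
theorem isIntegrallyClosedIn_generic {ι : Type v} (F : Krull.Family B ι)
    (hred : ∀ (K : Type u) [Field K] [Algebra B K], _root_.IsReduced (K ⊗[B] E))
    (T : Type u) [CommRing T] [Algebra E T]
    [IsLocalization (Algebra.algebraMapSubmonoid E (nonZeroDivisors B)) T] :
    IsIntegrallyClosedIn E T := by
  refine ⟨injective_generic (B := B) T, fun {x} => ⟨fun hx => ?_, ?_⟩⟩
  · obtain ⟨b, ⟨e, he⟩, rfl⟩ := IsLocalization.exists_mk'_eq (Algebra.algebraMapSubmonoid E (nonZeroDivisors B)) x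
    obtain ⟨t, ht, rfl⟩ := algebraMapSubmonoid_ne_zero he
    obtain ⟨p, hp, hp0⟩ := hx
    let S := algebraMap E T
    let x := IsLocalization.mk' T b (⟨algebraMap B E t, he⟩ : Algebra.algebraMapSubmonoid E (nonZeroDivisors B))
    have hxt : x * S (algebraMap B E t) = S b := IsLocalization.mk'_spec T b _
    have h0 : b ^ p.natDegree + ∑ i ∈ Finset.range p.natDegree,
        p.coeff i * algebraMap B E t ^ (p.natDegree - i) * b ^ i = 0 := by
      apply injective_generic (B := B) T
      rw [map_zero, map_add, map_pow, map_sum]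
      have h1 : Polynomial.eval₂ S x p * S (algebraMap B E t) ^ p.natDegree = 0 := by
        rw [show Polynomial.eval₂ S x p = 0 from hp0, zero_mul]
      rw [Polynomial.eval₂_eq_sum_range, Finset.sum_range_succ, hp.coeff_natDegree, map_one, one_mul, add_mul,
        Finset.sum_mul, ← mul_pow, hxt, add_comm] at h1
      refine Eq.trans (congrArg₂ (· + ·) rfl (Finset.sum_congr rfl fun i hi => ?_)) h1
      obtain ⟨d, hd⟩ : ∃ d, p.natDegree = i + d := ⟨p.natDegree - i, by have := Finset.mem_range.1 hi; omega⟩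
      rw [hd, Nat.add_sub_cancel_left, map_mul, map_mul, map_pow, map_pow]
      show S (p.coeff i) * S (algebraMap B E t) ^ d * S b ^ i = _
      rw [← hxt]
      ring
    have hb := mem_span_of_family_monic F hred ht _ h0
    rw [Ideal.map_span, Set.image_singleton, Ideal.mem_span_singleton] at hb
    obtain ⟨q, rfl⟩ := hb
    exact ⟨q, by rw [IsLocalization.eq_mk'_iff_mul_eq, map_mul, mul_comm]⟩
  · rintro ⟨y, rfl⟩
    exact isIntegral_algebraMap

end GrothLib.NormalTensor
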